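import Mathlib

/-!
# Finite morphisms to quasi-compact opens of affine schemes extend
-/

set_option autoImplicit false
set_option linter.style.haveILetI false
set_option backward.isDefEq.respectTransparency.types false

universe u

open CategoryTheory CategoryTheory.Limits AlgebraicGeometry TopologicalSpace

namespace Groth.Agent.FinExt2

/-- A ring is a localization when it is one for a bigger ring, with the same numerators up to powers. -/
theorem isLocalization_away_subalgebra {A R T : Type u} [CommRing A] [CommRing R] [Algebra A R] [CommRing T]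
    [Algebra R T] (a : A) [IsLocalization.Away (algebraMap A R a) T] (B : Subalgebra A R)
    (h : ∀ t : T, ∃ (n : ℕ) (b : B), t * algebraMap R T (algebraMap A R a) ^ n = algebraMap R T b) :
    letI : Algebra B T := ((algebraMap R T).comp B.val.toRingHom).toAlgebra
    IsLocalization.Away (algebraMap A B a) T := by
  letI : Algebra B T := ((algebraMap R T).comp B.val.toRingHom).toAlgebra
  have hcomp : ∀ b : B, algebraMap B T b = algebraMap R T b.1 := fun b => rfl
  have hva : ((algebraMap A B a : B) : R) = algebraMap A R a := rfl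
  constructor; constructor
  · rintro ⟨_, n, rfl⟩
    dsimp only
    rw [map_pow, hcomp, hva]
    exact (IsLocalization.Away.algebraMap_isUnit _).pow n
  · intro t
    obtain ⟨n, b, hb⟩ := h t
    refine ⟨⟨b, ⟨_, n, rfl⟩⟩, ?_⟩
    dsimp only
    rw [map_pow, hcomp, hva, hcomp]
    exact hb
  · intro x y hxy
    rw [hcomp, hcomp] at hxy
    obtain ⟨⟨_, n, rfl⟩, hc⟩ := IsLocalization.exists_of_eq (M := Submonoid.powers (algebraMap A R a)) hxy
    refine ⟨⟨_, n, rfl⟩, Subtype.ext ?_⟩
    simp only [MulMemClass.coe_mul, SubmonoidClass.coe_pow, hva]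
    exact hc

variable {A : CommRingCat.{u}} (U : (Spec A).Opens) {U' : Scheme.{u}} (g : U' ⟶ (U : Scheme.{u})) [IsFinite g]

theorem finite_app (D : (Spec A).Opens) (hD : IsAffineOpen D) (hDU : D ≤ U) :
    ((g ≫ U.ι).app D).hom.Finite ∧ IsAffineOpen ((g ≫ U.ι) ⁻¹ᵁ D) := by
  have haff : IsAffineOpen (U.ι ⁻¹ᵁ D) := hD.preimage_of_isOpenImmersion U.ι (by simpa using hDU)
  refine ⟨?_, haff.preimage g⟩
  rw [Scheme.Hom.comp_app]
  refine RingHom.Finite.comp (IsFinite.finite_app g _ haff) ?_
  haveI : IsIso (U.ι.app D) := Scheme.Hom.isIso_app U.ι D (by simpa using hDU)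
  exact RingHom.Finite.of_surjective _ (asIso (U.ι.app D)).commRingCatIsoToRingEquiv.surjective

theorem exists_finite_extension (hU : IsCompact (U : Set (Spec A))) :
    ∃ (B : Type u) (_ : CommRing B) (_ : Algebra A B) (i : U' ⟶ Spec (CommRingCat.of B)),
      Module.Finite A B ∧ IsPullback i g (Spec.map (CommRingCat.ofHom (algebraMap A B))) U.ι := by
  classical
  let g' := g ≫ U.ι
  haveI : CompactSpace (U : Scheme.{u}) := isCompact_iff_compactSpace.mp hU
  haveI : CompactSpace U' := QuasiCompact.compactSpace_of_compactSpace g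
  haveI : QuasiSeparatedSpace U' := quasiSeparatedSpace_of_quasiSeparated g'
  let R : Type u := Γ(U', ⊤)
  letI : Algebra A R := ((Scheme.ΓSpecIso A).inv ≫ g'.appTop).hom.toAlgebra
  have hpre : ∀ a : A, g' ⁻¹ᵁ (PrimeSpectrum.basicOpen a) = U'.basicOpen (algebraMap A R a) := fun a => by
    rw [show (PrimeSpectrum.basicOpen a : (Spec A).Opens) = (Spec A).basicOpen ((Scheme.ΓSpecIso A).inv a) from
      (basicOpen_eq_of_affine a).symm, Scheme.preimage_basicOpen]
    rfl
  have hloc : ∀ a : A, PrimeSpectrum.basicOpen a ≤ U → ∃ S : Finset R, (∀ x ∈ S, IsIntegral A x) ∧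
      IsAffineOpen (U'.basicOpen (algebraMap A R a)) ∧ ∀ C : Subalgebra A R, ↑S ⊆ (C : Set R) →
        ∀ t : Γ(U', U'.basicOpen (algebraMap A R a)), ∃ (n : ℕ) (b : C),
          t * (U'.presheaf.map (homOfLE (U'.basicOpen_le _)).op).hom (algebraMap A R a) ^ n =
            (U'.presheaf.map (homOfLE (U'.basicOpen_le _)).op).hom b.1 := by
    intro a ha
    let fa : R := algebraMap A R a
    have hD : IsAffineOpen (X := Spec A) (PrimeSpectrum.basicOpen a) := by
      rw [show (PrimeSpectrum.basicOpen a : (Spec A).Opens) = (Spec A).basicOpen ((Scheme.ΓSpecIso A).inv a) from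
        (basicOpen_eq_of_affine a).symm]
      exact (isAffineOpen_top (Spec A)).basicOpen _
    obtain ⟨hfin, haff⟩ := finite_app U g _ hD ha
    let T : Type u := Γ(U', U'.basicOpen fa)
    letI : Algebra R T := (U'.presheaf.map (homOfLE (U'.basicOpen_le fa)).op).hom.toAlgebra
    haveI : IsLocalization.Away fa T := isLocalization_basicOpen_of_qcqs isCompact_univ isQuasiSeparated_univ fa
    letI : Algebra A T := ((algebraMap R T).comp (algebraMap A R)).toAlgebra
    haveI : IsScalarTower A R T := IsScalarTower.of_algebraMap_eq fun _ => rfl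
    let ψ := g'.appLE (PrimeSpectrum.basicOpen a) (U'.basicOpen fa) (hpre a).ge
    have hψ : ψ.hom.Finite := by
      show (g'.app _ ≫ U'.presheaf.map _).hom.Finite
      refine RingHom.Finite.comp (RingHom.Finite.of_surjective _ ?_) hfin
      rw [show homOfLE (hpre a).ge = eqToHom (hpre a).symm from Subsingleton.elim _ _]
      exact (asIso (U'.presheaf.map (eqToHom (hpre a).symm).op)).commRingCatIsoToRingEquiv.surjective
    let Aa : Type u := Γ(Spec A, PrimeSpectrum.basicOpen a)
    letI : Algebra Aa T := ψ.hom.toAlgebra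
    haveI : Module.Finite Aa T := hψ
    letI : Algebra A Aa := StructureSheaf.openAlgebra A (Opposite.op (PrimeSpectrum.basicOpen a))
    haveI : IsLocalization.Away a Aa := StructureSheaf.IsLocalization.to_basicOpen A a
    haveI : IsScalarTower A Aa T := IsScalarTower.of_algebraMap_eq fun x => by
      show (U'.presheaf.map _).hom (g'.appTop.hom ((Scheme.ΓSpecIso A).inv x)) =
        ψ.hom (((Spec A).presheaf.map (homOfLE (le_top : PrimeSpectrum.basicOpen a ≤ ⊤)).op).hom
          ((Scheme.ΓSpecIso A).inv x))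
      show (g'.appTop ≫ U'.presheaf.map (homOfLE (U'.basicOpen_le fa)).op).hom ((Scheme.ΓSpecIso A).inv x) =
        ((Spec A).presheaf.map (homOfLE (le_top : PrimeSpectrum.basicOpen a ≤ ⊤)).op ≫ ψ).hom
          ((Scheme.ΓSpecIso A).inv x)
      have hk : g'.appTop ≫ U'.presheaf.map (homOfLE (U'.basicOpen_le fa)).op =
          (Spec A).presheaf.map (homOfLE (le_top : PrimeSpectrum.basicOpen a ≤ ⊤)).op ≫ ψ :=
        (g'.map_appLE (hpre a).ge (homOfLE (le_top : PrimeSpectrum.basicOpen a ≤ ⊤)).op).symm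
      exact DFunLike.congr_fun (congrArg CommRingCat.Hom.hom hk) _
    obtain ⟨s, hs⟩ := Module.Finite.fg_top (R := Aa) (M := T)
    have hnum : ∀ t : T, ∃ (n : ℕ) (x : R), IsIntegral A x ∧ t * algebraMap R T fa ^ n = algebraMap R T x := by
      intro t
      obtain ⟨⟨_, m, rfl⟩, hm⟩ := IsIntegral.exists_multiple_integral_of_isLocalization (R := A) (Rₘ := Aa)
        (Submonoid.powers a) t (Algebra.IsIntegral.isIntegral (R := Aa) t)
      obtain ⟨k, x, hx⟩ := IsLocalization.Away.surj fa t
      obtain ⟨P, hP, hP0⟩ := hm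
      have ht' : IsIntegral A (algebraMap R T x * algebraMap R T fa ^ m) := by
        have h1 : IsIntegral A ((a ^ m) • t) := ⟨P, hP, hP0⟩
        have h2 : algebraMap R T x * algebraMap R T fa ^ m = algebraMap A T (a ^ k) * ((a ^ m) • t) := by
          rw [← hx, Algebra.smul_def, map_pow, map_pow, show algebraMap A T a = algebraMap R T fa from rfl]
          ring
        rw [h2]
        exact isIntegral_algebraMap.mul h1
      rw [← map_pow, ← map_mul] at ht'
      obtain ⟨_, ⟨j, rfl⟩, hj⟩ := IsLocalization.exists_isIntegral_smul_of_isIntegral_map (R := A) (S := R) (Sₘ := T)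
        (Submonoid.powers a) ht'
      refine ⟨k + m + j, _, hj, ?_⟩
      rw [Algebra.smul_def, map_mul, map_mul, map_pow, map_pow, map_pow, ← hx]
      show t * _ = algebraMap R T fa ^ j * _
      ring
    choose n x hx hxt using hnum
    refine ⟨s.image x, fun y hy => ?_, hpre a ▸ haff, fun C hC t => ?_⟩
    · obtain ⟨t, -, rfl⟩ := Finset.mem_image.1 hy
      exact hx t
    show ∃ (n : ℕ) (b : C), t * algebraMap R T fa ^ n = algebraMap R T b.1
    have ht : t ∈ Submodule.span Aa (s : Set T) := hs ▸ Submodule.mem_top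
    induction ht using Submodule.span_induction with
    | mem y hy => exact ⟨n y, ⟨x y, hC (Finset.mem_coe.2 (Finset.mem_image_of_mem x hy))⟩, hxt y⟩
    | zero => exact ⟨0, 0, by simp⟩
    | add y z _ _ hy hz =>
      obtain ⟨p, b, hb⟩ := hy
      obtain ⟨q, c, hc⟩ := hz
      refine ⟨p + q, algebraMap A C a ^ q * b + algebraMap A C a ^ p * c, ?_⟩
      show _ = algebraMap R T (fa ^ q * b.1 + fa ^ p * c.1)
      rw [map_add, map_mul, map_mul, map_pow, map_pow, ← hb, ← hc]
      ring
    | smul c y _ hy =>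
      obtain ⟨p, b, hb⟩ := hy
      obtain ⟨q, c₀, hc⟩ := IsLocalization.Away.surj a c
      refine ⟨p + q, algebraMap A C c₀ * b, ?_⟩
      show _ = algebraMap R T (algebraMap A R c₀ * b.1)
      rw [map_mul, ← hb, show algebraMap R T (algebraMap A R c₀) = algebraMap Aa T (algebraMap A Aa c₀) from
          (IsScalarTower.algebraMap_apply A R T c₀).symm.trans (IsScalarTower.algebraMap_apply A Aa T c₀),
        ← hc, map_mul, map_pow, show algebraMap Aa T (algebraMap A Aa a) = algebraMap R T fa from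
          (IsScalarTower.algebraMap_apply A Aa T a).symm.trans (IsScalarTower.algebraMap_apply A R T a),
        Algebra.smul_def]
      ring
  -- finitely many basic opens
  have hb : ∀ y : (U : Set (Spec A)), ∃ a : A, (y : Spec A) ∈ PrimeSpectrum.basicOpen a ∧
      PrimeSpectrum.basicOpen a ≤ U := fun y => by
    obtain ⟨_, ⟨a, rfl⟩, hy, hle⟩ :=
      PrimeSpectrum.isTopologicalBasis_basic_opens.exists_subset_of_mem_open y.2 U.2
    exact ⟨a, hy, hle⟩
  choose a hya hau using hb
  obtain ⟨s, hs⟩ := hU.elim_finite_subcover (fun y => ((PrimeSpectrum.basicOpen (a y) : Opens (PrimeSpectrum A)) : Set (PrimeSpectrum A)))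
    (fun y => (PrimeSpectrum.basicOpen (a y)).2) (fun y hy => Set.mem_iUnion.2 ⟨⟨y, hy⟩, hya ⟨y, hy⟩⟩)
  choose S hSint hSaff hSgen using fun y => hloc (a y) (hau y)
  let gens : Set R := ⋃ y ∈ s, (S y : Set R)
  let B : Subalgebra A R := Algebra.adjoin A gens
  have hgfin : gens.Finite := s.finite_toSet.biUnion fun y _ => (S y).finite_toSet
  haveI : Module.Finite A B := Module.Finite.iff_fg.2 (fg_adjoin_of_finite hgfin fun r hr => by
    obtain ⟨y, -, hy⟩ := Set.mem_iUnion₂.1 hr
    exact hSint y r hy)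
  let i : U' ⟶ Spec (CommRingCat.of B) := U'.toSpecΓ ≫ Spec.map (CommRingCat.ofHom B.val.toRingHom)
  let q : Spec (CommRingCat.of B) ⟶ Spec A := Spec.map (CommRingCat.ofHom (algebraMap A B))
  have hiq : i ≫ q = g' := by
    refine (Category.assoc _ _ _).trans ?_
    rw [← Spec.map_comp]
    show U'.toSpecΓ ≫ Spec.map ((Scheme.ΓSpecIso A).inv ≫ g'.appTop) = g'
    rw [Spec.map_comp, ← Category.assoc, ← Scheme.toSpecΓ_naturality, Category.assoc, ← SpecMap_ΓSpecIso_hom,
      ← Spec.map_comp, Iso.inv_hom_id, Spec.map_id, Category.comp_id]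
  refine ⟨B, inferInstance, inferInstance, i, inferInstance, ?_⟩
  -- the open over `U`
  let O : (Spec (CommRingCat.of B)).Opens := q ⁻¹ᵁ U
  have hiO : ∀ x, i x ∈ O := fun x => by
    show q (i x) ∈ U
    rw [← Scheme.Hom.comp_apply, hiq]
    exact (g x).2
  let i' : U' ⟶ (O : Scheme.{u}) := IsOpenImmersion.lift O.ι i (by
    rw [Scheme.Opens.range_ι]; rintro _ ⟨x, rfl⟩; exact hiO x)
  have hi' : i' ≫ O.ι = i := IsOpenImmersion.lift_fac _ _ _
  have hiso : IsIso i' := by
    refine (IsZariskiLocalAtTarget.iff_of_iSup_eq_top (P := MorphismProperty.isomorphisms Scheme.{u})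
      (fun y : s => O.ι ⁻¹ᵁ (q ⁻¹ᵁ (PrimeSpectrum.basicOpen (a y.1)))) ?_).2 fun y => ?_
    · refine top_unique fun z _ => ?_
      obtain ⟨y, hy, hz⟩ := Set.mem_iUnion₂.1 (hs z.2)
      exact Opens.mem_iSup.2 ⟨⟨y, hy⟩, hz⟩
    · let D := O.ι ⁻¹ᵁ (q ⁻¹ᵁ (PrimeSpectrum.basicOpen (a y.1)))
      let fa : R := algebraMap A R (a y.1)
      let W := U'.basicOpen fa
      have hW : IsAffineOpen W := hSaff y.1
      have hWD : i' ⁻¹ᵁ D = W := by
        show i' ⁻¹ᵁ D = U'.basicOpen (algebraMap A R (a y.1))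
        rw [← hpre (a y.1), ← hiq, ← hi', Scheme.Hom.comp_preimage, Scheme.Hom.comp_preimage]
      let T : Type u := Γ(U', W)
      letI : Algebra R T := (U'.presheaf.map (homOfLE (U'.basicOpen_le fa)).op).hom.toAlgebra
      haveI : IsLocalization.Away fa T := isLocalization_basicOpen_of_qcqs isCompact_univ isQuasiSeparated_univ fa
      letI : Algebra B T := ((algebraMap R T).comp B.val.toRingHom).toAlgebra
      haveI : IsLocalization.Away (algebraMap A B (a y.1)) T :=
        isLocalization_away_subalgebra (a y.1) B fun t => hSgen y.1 B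
          (fun r hr => Algebra.subset_adjoin (Set.mem_iUnion₂.2 ⟨y.1, y.2, hr⟩)) t
      have hcomp : hW.fromSpec ≫ i = Spec.map (CommRingCat.ofHom (algebraMap B T)) := by
        show hW.fromSpec ≫ U'.toSpecΓ ≫ _ = _
        rw [reassoc_of% hW.fromSpec_toSpecΓ, ← Spec.map_comp]
        rfl
      have himm : IsOpenImmersion (W.ι ≫ i) := by
        haveI : IsOpenImmersion (Spec.map (CommRingCat.ofHom (algebraMap B T))) :=
          IsOpenImmersion.of_isLocalization (algebraMap A B (a y.1))
        rw [← hW.isoSpec_inv_ι, Category.assoc] at hcomp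
        rw [← Iso.hom_inv_id_assoc hW.isoSpec (W.ι ≫ i), hcomp]
        infer_instance
      have hrange : Set.range (W.ι ≫ i) = (O.ι ''ᵁ D : Set (Spec (CommRingCat.of B))) := by
        rw [← hW.isoSpec_inv_ι, Category.assoc] at hcomp
        rw [← Iso.hom_inv_id_assoc hW.isoSpec (W.ι ≫ i), hcomp, Scheme.Hom.comp_base, TopCat.coe_comp,
          Set.range_comp, hW.isoSpec.hom.surjective.range_eq, Set.image_univ]
        show Set.range (PrimeSpectrum.comap (algebraMap B T)) = _
        rw [PrimeSpectrum.localization_away_comap_range T (algebraMap A B (a y.1)),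
          Scheme.Hom.image_preimage_eq_opensRange_inf, Scheme.Opens.opensRange_ι]
        ext z
        exact ⟨fun hz => ⟨hau y.1 hz, hz⟩, fun hz => hz.2⟩
      have hfac : (i' ∣_ D) ≫ (D.ι ≫ O.ι) = (i' ⁻¹ᵁ D).ι ≫ i := by
        rw [morphismRestrict_ι_assoc, hi']
      haveI : IsOpenImmersion ((i' ∣_ D) ≫ (D.ι ≫ O.ι)) := by rw [hfac, hWD]; exact himm
      haveI : IsOpenImmersion (i' ∣_ D) := IsOpenImmersion.of_comp (i' ∣_ D) (D.ι ≫ O.ι)
      haveI : Surjective (i' ∣_ D) := ⟨fun z => by
        have hz : O.ι (D.ι z) ∈ Set.range (W.ι ≫ i) := hrange ▸ ⟨D.ι z, z.2, rfl⟩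
        obtain ⟨w, hw⟩ := hz
        have hw' : w.1 ∈ i' ⁻¹ᵁ D := hWD.symm ▸ w.2
        refine ⟨⟨w.1, hw'⟩, (D.ι ≫ O.ι).isOpenEmbedding.injective ?_⟩
        rw [← Scheme.Hom.comp_apply, hfac]
        exact hw⟩
      exact isIso_of_isOpenImmersion_of_opensRange_eq_top (i' ∣_ D) (Opens.ext (Surjective.surj (f := i' ∣_ D)).range_eq)
  refine IsPullback.of_iso (isPullback_morphismRestrict q U).flip (asIso i').symm (Iso.refl _) (Iso.refl _)
    (Iso.refl _) ?_ ?_ (by simp; rfl) (by simp)
  · simp [← hi']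
    rfl
  · rw [Iso.refl_hom, Category.comp_id, Iso.symm_hom, asIso_inv, ← cancel_epi i', IsIso.hom_inv_id_assoc,
      ← cancel_mono U.ι, Category.assoc, morphismRestrict_ι, reassoc_of% hi', hiq]

end Groth.Agent.FinExt2
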